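import Cfsg.Agent.H301.PQ.RankThree
import Cfsg.Agent.H870.IMFiTwentyTwo
import Cfsg.Agent.Prune
set_option linter.all false
prune_inst 0x7f00000000000000000000000000000000000000000000000000000000000000000000000000000000000000000000000000000000000000000000000000000000000000000000000000000000000000003fffffffffffffffffffffffffffbeffbdffffffff

/-!
# The row `Fi₂₂` of S4526 (helper968)

The rank 3 action on the 3510 transpositions: `r = 63`, `s = -9`, degrees 429 and 3080.
-/

set_option autoImplicit false

namespace Cfsg.Agent.H968.Imc

open Cfsg Cfsg.Agent.H625.SylConst Cfsg.Agent.H870.IMFi22 Cfsg.Agent.H690.Spor.RankThree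

universe u

end Cfsg.Agent.H968.Imc
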